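import Groth.Agent.Lib.FlatSyz.ProjDim
import Groth.Agent.Lib.HomDim.LocalizePd
import Mathlib.RingTheory.Spectrum.Prime.FreeLocus
import Mathlib.RingTheory.RegularLocalRing.Polynomial
import Mathlib.RingTheory.Flat.Stability
import Mathlib.RingTheory.Flat.Equalizer

/-!
Projectivity of the cokernels of a complex of finite free modules, from the fibres over the base.
-/

set_option autoImplicit false
set_option linter.style.haveILetI false

universe u
set_option maxHeartbeats 400000

open TensorProduct CategoryTheory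

namespace Groth.Agent.RelPerfFib5

section Dim

variable {S : Type u} [CommRing S] (X : ℤ → Type u) [∀ i, AddCommGroup (X i)] [∀ i, Module S (X i)]
  (d : ∀ i j, X i →ₗ[S] X j)

/-- The cokernel in degree `n`. -/
abbrev Cok (n : ℤ) : Type u := X n ⧸ LinearMap.range (d (n - 1) n)

variable [∀ i, Module.Projective S (X i)]

theorem pd_step {n : ℤ} (hex : Function.Exact (d (n - 1) n) (d n (n + 1))) (k : ℕ)
    (h : HasProjectiveDimensionLE (ModuleCat.of S (Cok X d (n + 1))) (k + 1)) :
    HasProjectiveDimensionLE (ModuleCat.of S (Cok X d n)) k := by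
  have hker : LinearMap.ker (d n (n + 1)) = LinearMap.range (d (n - 1) n) :=
    LinearMap.exact_iff.1 hex
  let i : Cok X d n →ₗ[S] X (n + 1) := (LinearMap.range (d (n - 1) n)).liftQ (d n (n + 1)) hker.ge
  have hi : Function.Injective i := LinearMap.ker_eq_bot.1
    (Submodule.ker_liftQ_eq_bot _ _ _ hker.le)
  have hrange : LinearMap.range i = LinearMap.range (d n (n + 1)) := Submodule.range_liftQ _ _ _
  have hp : Function.Exact i (LinearMap.range (d (n + 1 - 1) (n + 1))).mkQ := by
    rw [LinearMap.exact_iff, Submodule.ker_mkQ, hrange, add_sub_cancel_right]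
  exact (FlatSyz.hasProjectiveDimensionLE_succ_iff i hi _ hp (Submodule.mkQ_surjective _) k).1 h

/-- Deep cokernels of an exact complex are projective once one has finite projective dimension. -/
theorem projective_cok_of_pd (a : ℤ) (hex : ∀ i, i < a → Function.Exact (d (i - 1) i) (d i (i + 1))) :
    ∀ (k : ℕ) (m : ℤ), m ≤ a → HasProjectiveDimensionLE (ModuleCat.of S (Cok X d m)) k →
      ∀ n, n ≤ m - k → Module.Projective S (Cok X d n) := by
  intro k
  induction k with
  | zero =>
    intro m hm h n hn
    have hn : n ≤ m := by simpa using hn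
    suffices HasProjectiveDimensionLE (ModuleCat.of S (Cok X d n)) 0 from
      (IsProjective.iff_projective _).2 ((projective_iff_hasProjectiveDimensionLE_zero _).2 this)
    revert hn
    refine Int.leInductionDown (m := m) (motive := fun n _ => HasProjectiveDimensionLE (ModuleCat.of S (Cok X d n)) 0) h ?_ n
    intro j hj hp
    have h1 : HasProjectiveDimensionLE (ModuleCat.of S (Cok X d (j - 1 + 1))) (0 + 1) := by
      rw [sub_add_cancel]
      exact hasProjectiveDimensionLT_of_ge _ 1 2 (by omega)
    exact pd_step X d (hex (j - 1) (by omega)) 0 h1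
  | succ k ih =>
    intro m hm h n hn
    have h1 : HasProjectiveDimensionLE (ModuleCat.of S (Cok X d (m - 1 + 1))) (k + 1) := by
      rw [sub_add_cancel]; exact h
    exact ih (m - 1) (by omega) (pd_step X d (hex (m - 1) (by omega)) k h1) n (by push_cast at hn; omega)

theorem exists_projective_cok [IsRegularRing S] [∀ i, Module.Finite S (X i)] (a : ℤ)
    (hex : ∀ i, i < a → Function.Exact (d (i - 1) i) (d i (i + 1))) :
    ∃ N : ℤ, N ≤ a ∧ ∀ n ≤ N, Module.Projective S (Cok X d n) := by
  obtain ⟨k, hk⟩ := HomDim.exists_hasProjectiveDimensionLE_of_regular S (Cok X d a)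
  exact ⟨a - k, by omega, projective_cok_of_pd X d a hex k a le_rfl hk⟩

end Dim

section Local

variable {B : Type u} [CommRing B] [IsLocalRing B] (J : Ideal B) (hJ : J ≤ IsLocalRing.maximalIdeal B)
  {F2 F1 F0 : Type u} [AddCommGroup F2] [Module B F2] [AddCommGroup F1] [Module B F1] [AddCommGroup F0]
  [Module B F0] [Module.Finite B F1] [Module.Projective B F0] [Module.Finite B F0]

include hJ in
/-- A cokernel which is free modulo an ideal, the complex staying exact modulo it, is free. -/
theorem free_cok_of_mod (d2 : F2 →ₗ[B] F1) (d1 : F1 →ₗ[B] F0) (h12 : d1 ∘ₗ d2 = 0)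
    (hex : ∀ x, d1 x ∈ J • (⊤ : Submodule B F0) → x ∈ LinearMap.range d2 ⊔ J • ⊤)
    [Module.Free (B ⧸ J) ((F0 ⧸ LinearMap.range d1) ⧸ J • (⊤ : Submodule B (F0 ⧸ LinearMap.range d1)))] :
    Module.Free B (F0 ⧸ LinearMap.range d1) := by
  classical
  let M := F0 ⧸ LinearMap.range d1
  let Q := M ⧸ J • (⊤ : Submodule B M)
  have hJj : J ≤ Ideal.jacobson ⊥ := by rw [IsLocalRing.jacobson_eq_maximalIdeal ⊥ bot_ne_top]; exact hJ
  haveI : Module.Finite (B ⧸ J) Q := Module.Finite.of_restrictScalars_finite B _ _
  haveI : Nontrivial (B ⧸ J) := Ideal.Quotient.nontrivial_iff.mpr fun h =>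
    (IsLocalRing.maximalIdeal.isMaximal B).ne_top (top_le_iff.1 (h ▸ hJ))
  let b := Module.Free.chooseBasis (B ⧸ J) Q
  let ι := Module.Free.ChooseBasisIndex (B ⧸ J) Q
  choose f0 hf0 using fun i : ι =>
    (Submodule.mkQ_surjective (J • (⊤ : Submodule B M))).comp (Submodule.mkQ_surjective (LinearMap.range d1)) (b i)
  let s : (ι → B) →ₗ[B] F0 := Fintype.linearCombination B f0
  let φ : (ι → B) →ₗ[B] M := (LinearMap.range d1).mkQ ∘ₗ s
  have hφQ : ∀ v, (J • (⊤ : Submodule B M)).mkQ (φ v) =
      ∑ i, (Ideal.Quotient.mk J (v i)) • b i := fun v => by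
    show (J • (⊤ : Submodule B M)).mkQ ((LinearMap.range d1).mkQ (∑ i, v i • f0 i)) = _
    rw [map_sum, map_sum]
    refine Finset.sum_congr rfl fun i _ => ?_
    rw [map_smul, map_smul, ← hf0 i]
    exact (algebraMap_smul (B ⧸ J) (v i) _).symm
  have hφJ : ∀ v, φ v ∈ J • (⊤ : Submodule B M) → v ∈ J • (⊤ : Submodule B (ι → B)) := by
    intro v hv
    have h0 : (J • (⊤ : Submodule B M)).mkQ (φ v) = 0 := (Submodule.Quotient.mk_eq_zero _).2 hv
    rw [hφQ] at h0
    have hvi := Fintype.linearIndependent_iff.1 b.linearIndependent _ h0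
    rw [pi_eq_sum_univ' v]
    exact Submodule.sum_mem _ fun i _ => Submodule.smul_mem_smul
      (Ideal.Quotient.eq_zero_iff_mem.1 (hvi i)) Submodule.mem_top
  have hφs : Function.Surjective φ := by
    rw [← LinearMap.range_eq_top, eq_top_iff]
    refine Submodule.le_of_le_smul_of_le_jacobson_bot (Module.Finite.fg_top) hJj ?_
    intro m _
    have hm : (J • (⊤ : Submodule B M)).mkQ m =
        ∑ i, b.repr ((J • (⊤ : Submodule B M)).mkQ m) i • b i := (b.sum_repr _).symm
    choose v hv using fun i => Ideal.Quotient.mk_surjective (b.repr ((J • (⊤ : Submodule B M)).mkQ m) i)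
    have : (J • (⊤ : Submodule B M)).mkQ m = (J • (⊤ : Submodule B M)).mkQ (φ v) := by
      rw [hφQ, hm]
      simp only [hv]
      rfl
    have h2 : m - φ v ∈ J • (⊤ : Submodule B M) := (Submodule.Quotient.eq _).1 this
    rw [Submodule.mem_sup]
    exact ⟨φ v, LinearMap.mem_range_self _ _, m - φ v, h2, by abel⟩
  let G : F1 × (ι → B) →ₗ[B] F0 := d1.coprod s
  have hG : Function.Surjective G := fun y => by
    obtain ⟨v, hv⟩ := hφs ((LinearMap.range d1).mkQ y)
    obtain ⟨u, hu⟩ := (Submodule.Quotient.eq _).1 hv.symm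
    exact ⟨(u, v), by simp [G, hu]⟩
  obtain ⟨σ, hσ⟩ := Module.projective_lifting_property G LinearMap.id hG
  let π : F1 × (ι → B) →ₗ[B] LinearMap.ker G := (LinearMap.id - σ ∘ₗ G).codRestrict _ fun x => by
    rw [LinearMap.mem_ker, LinearMap.sub_apply, map_sub, LinearMap.comp_apply, sub_eq_zero]
    exact (LinearMap.congr_fun hσ (G x)).symm
  have hπ : ∀ x : LinearMap.ker G, π x.1 = x := fun x => Subtype.ext (by
    show x.1 - σ (G x.1) = x.1
    rw [LinearMap.mem_ker.1 x.2, map_zero, sub_zero])
  haveI : Module.Finite B (LinearMap.ker G) := Module.Finite.of_surjective π fun x => ⟨x.1, hπ x⟩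
  let N : Submodule B (LinearMap.ker G) :=
    LinearMap.range ((LinearMap.inl B F1 (ι → B) ∘ₗ d2).codRestrict (LinearMap.ker G) fun w => by
      simp [G, ← LinearMap.comp_apply, h12])
  have hN : (⊤ : Submodule B (LinearMap.ker G)) ≤ N := by
    refine Submodule.le_of_le_smul_of_le_jacobson_bot (Module.Finite.fg_top) hJj ?_
    rintro ⟨⟨u, v⟩, huv⟩ -
    have h0 : d1 u + s v = 0 := huv
    have hφv : φ v = 0 := by
      show (LinearMap.range d1).mkQ (s v) = 0
      exact (Submodule.Quotient.mk_eq_zero _).2
        ⟨-u, by rw [map_neg]; exact (eq_neg_of_add_eq_zero_right h0).symm⟩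
    have hvJ : v ∈ J • (⊤ : Submodule B (ι → B)) := hφJ v (by rw [hφv]; exact zero_mem _)
    have hd1u : d1 u ∈ J • (⊤ : Submodule B F0) := by
      rw [eq_neg_of_add_eq_zero_left h0]
      refine neg_mem ?_
      have := Submodule.mem_map_of_mem (f := s) hvJ
      rw [Submodule.map_smul''] at this
      exact Submodule.smul_mono le_rfl le_top this
    obtain ⟨_, ⟨w, rfl⟩, j, hj, hju⟩ := Submodule.mem_sup.1 (hex u hd1u)
    have hpair : ((j, v) : F1 × (ι → B)) ∈ J • (⊤ : Submodule B (F1 × (ι → B))) := by
      have h1 := Submodule.mem_map_of_mem (f := LinearMap.inl B F1 (ι → B)) hj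
      have h2 := Submodule.mem_map_of_mem (f := LinearMap.inr B F1 (ι → B)) hvJ
      rw [Submodule.map_smul''] at h1 h2
      have := add_mem (Submodule.smul_mono le_rfl le_top h1 : _ ∈ J • (⊤ : Submodule B (F1 × (ι → B))))
        (Submodule.smul_mono le_rfl le_top h2 : _ ∈ J • (⊤ : Submodule B (F1 × (ι → B))))
      simpa using this
    have h3 := Submodule.mem_map_of_mem (f := π) hpair
    rw [Submodule.map_smul''] at h3
    have h4 : π (j, v) ∈ J • (⊤ : Submodule B (LinearMap.ker G)) := Submodule.smul_mono le_rfl le_top h3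
    rw [Submodule.mem_sup]
    refine ⟨_, ⟨w, rfl⟩, _, h4, ?_⟩
    have hk : ((j, v) : F1 × (ι → B)) ∈ LinearMap.ker G := by
      show d1 j + s v = 0
      have : d1 (d2 w) = 0 := LinearMap.congr_fun h12 w
      rw [show j = u - d2 w by rw [← hju]; abel, map_sub, this, sub_zero]
      exact h0
    rw [show π (j, v) = ⟨(j, v), hk⟩ from hπ ⟨_, hk⟩]
    apply Subtype.ext
    show ((d2 w, (0 : ι → B)) : F1 × (ι → B)) + (j, v) = (u, v)
    rw [Prod.mk_add_mk, hju, zero_add]
  have hφi : Function.Injective φ := by
    rw [injective_iff_map_eq_zero]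
    intro v hv
    obtain ⟨u, hu⟩ := (Submodule.Quotient.mk_eq_zero _).1 hv
    obtain ⟨w, hw⟩ := hN (Submodule.mem_top (x := (⟨(-u, v), by
      show d1 (-u) + s v = 0
      rw [map_neg, hu, neg_add_cancel]⟩ : LinearMap.ker G)))
    exact (congrArg (fun x : LinearMap.ker G => x.1.2) hw).symm
  exact Module.Free.of_equiv (LinearEquiv.ofBijective φ ⟨hφi, hφs⟩)

end Local

section Tensor

variable {P : Type u} [CommRing P] {F2 F1 F0 : Type u} [AddCommGroup F2] [Module P F2]
  [AddCommGroup F1] [Module P F1] [AddCommGroup F0] [Module P F0]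

/-- Tensoring keeps exactness in front of a flat cokernel. -/
theorem exact_lTensor_of_flat_coker (f : F2 →ₗ[P] F1) (g : F1 →ₗ[P] F0) (h : Function.Exact f g)
    [Module.Flat P (F0 ⧸ LinearMap.range g)] (C : Type u) [AddCommGroup C] [Module P C] :
    Function.Exact (f.lTensor C) (g.lTensor C) := by
  have hker : LinearMap.ker g = LinearMap.range f := LinearMap.exact_iff.1 h
  let i : (F1 ⧸ LinearMap.range f) →ₗ[P] F0 := (LinearMap.range f).liftQ g hker.ge
  have hi : Function.Injective i := LinearMap.ker_eq_bot.1 (Submodule.ker_liftQ_eq_bot _ _ _ hker.le)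
  have hex : Function.Exact i (LinearMap.range g).mkQ := by
    rw [LinearMap.exact_iff, Submodule.ker_mkQ, Submodule.range_liftQ]
  have hinj := LinearMap.lTensor_injective_of_exact_of_flat (LinearMap.range g).mkQ
    (Submodule.mkQ_surjective _) i hi hex C
  have hgi : g = i ∘ₗ (LinearMap.range f).mkQ := (Submodule.liftQ_mkQ _ _ _).symm
  have hq := lTensor_exact C (f := f) (g := (LinearMap.range f).mkQ)
    (by rw [LinearMap.exact_iff, Submodule.ker_mkQ]) (Submodule.mkQ_surjective _)
  intro x
  rw [hgi, LinearMap.lTensor_comp, LinearMap.comp_apply, map_eq_zero_iff _ hinj]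
  exact hq x

/-- The kernel of reduction of a tensor product. -/
theorem ker_rTensor_mk {B : Type u} [CommRing B] [Algebra P B] (J : Ideal B) (F : Type u)
    [AddCommGroup F] [Module P F] (x : B ⊗[P] F) :
    LinearMap.rTensor F (Ideal.Quotient.mkₐ P J).toLinearMap x = 0 ↔
      x ∈ J • (⊤ : Submodule B (B ⊗[P] F)) := by
  constructor
  · intro hx
    have hex : Function.Exact (J.subtype.restrictScalars P) (Ideal.Quotient.mkₐ P J).toLinearMap := by
      intro b
      show Ideal.Quotient.mk J b = 0 ↔ _
      rw [Ideal.Quotient.eq_zero_iff_mem]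
      exact ⟨fun h => ⟨⟨b, h⟩, rfl⟩, by rintro ⟨⟨c, hc⟩, rfl⟩; exact hc⟩
    obtain ⟨w, rfl⟩ := (rTensor_exact F hex (Ideal.Quotient.mkₐ_surjective P J) x).1 hx
    induction w using TensorProduct.induction_on with
    | zero => rw [map_zero]; exact zero_mem _
    | add a b ha hb =>
      rw [map_add]
      exact add_mem (ha (by rw [map_add] at hx; exact (rTensor_exact F hex (Ideal.Quotient.mkₐ_surjective P J) _).2 ⟨a, rfl⟩))
        (hb ((rTensor_exact F hex (Ideal.Quotient.mkₐ_surjective P J) _).2 ⟨b, rfl⟩))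
    | tmul j f =>
      rw [LinearMap.rTensor_tmul, show (J.subtype.restrictScalars P) j ⊗ₜ[P] f = (j : B) • ((1 : B) ⊗ₜ[P] f) by
        rw [TensorProduct.smul_tmul', smul_eq_mul, mul_one]; rfl]
      exact Submodule.smul_mem_smul j.2 Submodule.mem_top
  · intro hx
    induction hx using Submodule.smul_induction_on' with
    | smul r hr n hn =>
      clear hn
      induction n using TensorProduct.induction_on with
      | zero => rw [smul_zero, map_zero]
      | add a b ha hb => rw [smul_add, map_add, ha, hb, add_zero]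
      | tmul b f =>
        rw [TensorProduct.smul_tmul', LinearMap.rTensor_tmul]
        show Ideal.Quotient.mk J (r • b) ⊗ₜ[P] f = 0
        rw [Ideal.Quotient.eq_zero_iff_mem.2 (show r • b ∈ J from J.mul_mem_right b hr), TensorProduct.zero_tmul]
    | add a _ b _ ha hb => rw [map_add, ha, hb, add_zero]

/-- Exactness over a further base change along a tower, the last cokernel being flat. -/
theorem exact_tower (d2 : F2 →ₗ[P] F1) (d1 : F1 →ₗ[P] F0)
    (S : Type u) [CommRing S] [Algebra P S] (hex : Function.Exact (d2.baseChange S) (d1.baseChange S))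
    [Module.Flat S ((S ⊗[P] F0) ⧸ LinearMap.range (d1.baseChange S))]
    (C : Type u) [CommRing C] [Algebra P C] [Algebra S C] [IsScalarTower P S C] :
    Function.Exact (d2.lTensor C) (d1.lTensor C) := by
  have h1 : Function.Exact ((d2.baseChange S).lTensor C) ((d1.baseChange S).lTensor C) :=
    exact_lTensor_of_flat_coker (P := S) (d2.baseChange S) (d1.baseChange S) hex C
  refine Function.Exact.of_ladder_linearEquiv_of_exact
    (e₁ := (AlgebraTensorModule.cancelBaseChange P S C C F2).restrictScalars P)
    (e₂ := (AlgebraTensorModule.cancelBaseChange P S C C F1).restrictScalars P)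
    (e₃ := (AlgebraTensorModule.cancelBaseChange P S C C F0).restrictScalars P)
    (f₁₂ := ((d2.baseChange S).lTensor C).restrictScalars P)
    (f₂₃ := ((d1.baseChange S).lTensor C).restrictScalars P) ?_ ?_ h1
  · refine LinearMap.ext fun z => ?_
    induction z using TensorProduct.induction_on with
    | zero => simp only [map_zero]
    | add a b ha hb => simp only [map_add, ha, hb]
    | tmul c y =>
      induction y using TensorProduct.induction_on with
      | zero => simp only [tmul_zero, map_zero]
      | add a b ha hb => simp only [tmul_add, map_add, ha, hb]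
      | tmul s f => simp
  · refine LinearMap.ext fun z => ?_
    induction z using TensorProduct.induction_on with
    | zero => simp only [map_zero]
    | add a b ha hb => simp only [map_add, ha, hb]
    | tmul c y =>
      induction y using TensorProduct.induction_on with
      | zero => simp only [tmul_zero, map_zero]
      | add a b ha hb => simp only [tmul_add, map_add, ha, hb]
      | tmul s f => simp

/-- The cokernel after base change. -/
theorem nonempty_cok_baseChange (d1 : F1 →ₗ[P] F0) (T : Type u) [CommRing T] [Algebra P T] :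
    Nonempty (((T ⊗[P] F0) ⧸ LinearMap.range (d1.baseChange T)) ≃ₗ[T]
      T ⊗[P] (F0 ⧸ LinearMap.range d1)) := by
  have hsurj : Function.Surjective ((LinearMap.range d1).mkQ.baseChange T) := by
    rw [LinearMap.baseChange_eq_ltensor]
    exact LinearMap.lTensor_surjective T (Submodule.mkQ_surjective _)
  have hker : LinearMap.ker ((LinearMap.range d1).mkQ.baseChange T) = LinearMap.range (d1.baseChange T) := by
    ext x
    exact (lTensor_exact T (f := d1) (g := (LinearMap.range d1).mkQ)
      (by rw [LinearMap.exact_iff, Submodule.ker_mkQ]) (Submodule.mkQ_surjective _)) x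
  exact ⟨(Submodule.quotEquivOfEq _ _ hker.symm).trans (LinearMap.quotKerEquivOfSurjective _ hsurj)⟩

/-- Reduction of a base change modulo an ideal. -/
theorem free_quot_smul {B : Type u} [CommRing B] [Algebra P B] (J : Ideal B) (M : Type u) [AddCommGroup M]
    [Module P M] (M' : Type u) [AddCommGroup M'] [Module B M'] (e : M' ≃ₗ[B] B ⊗[P] M)
    [Module.Free (B ⧸ J) ((B ⧸ J) ⊗[P] M)] :
    Module.Free (B ⧸ J) (M' ⧸ J • (⊤ : Submodule B M')) := by
  let g0 : B ⊗[P] M →ₗ[B] (B ⧸ J) ⊗[P] M :=
    TensorProduct.AlgebraTensorModule.map (Algebra.linearMap B (B ⧸ J)) LinearMap.id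
  have hg0 : ∀ z, g0 z = LinearMap.rTensor M (Ideal.Quotient.mkₐ P J).toLinearMap z := fun z => by
    induction z using TensorProduct.induction_on with
    | zero => simp only [map_zero]
    | add a b ha hb => simp only [map_add, ha, hb]
    | tmul b m => rfl
  let g : M' →ₗ[B] (B ⧸ J) ⊗[P] M := g0 ∘ₗ e.toLinearMap
  have hgs : Function.Surjective g := fun y => by
    obtain ⟨z, rfl⟩ := LinearMap.rTensor_surjective M (g := (Ideal.Quotient.mkₐ P J).toLinearMap)
      (Ideal.Quotient.mkₐ_surjective P J) y
    exact ⟨e.symm z, by rw [← hg0]; exact congrArg g0 (e.apply_symm_apply z)⟩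
  have hgk : LinearMap.ker g = J • (⊤ : Submodule B M') := by
    ext x
    rw [LinearMap.mem_ker, show g x = g0 (e x) from rfl, hg0, ker_rTensor_mk]
    constructor
    · intro h
      have h2 := Submodule.mem_map_of_mem (f := e.symm.toLinearMap) h
      rw [Submodule.map_smul''] at h2
      exact Submodule.smul_mono le_rfl le_top (by simpa using h2)
    · intro h
      have h2 := Submodule.mem_map_of_mem (f := e.toLinearMap) h
      rw [Submodule.map_smul''] at h2
      exact Submodule.smul_mono le_rfl le_top h2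
  exact Module.Free.of_equiv (LinearEquiv.extendScalarsOfSurjective Ideal.Quotient.mk_surjective
    ((Submodule.quotEquivOfEq _ _ hgk.symm).trans (g.quotKerEquivOfSurjective hgs))).symm

/-- Freeness over a local algebra from exactness and freeness modulo an ideal. -/
theorem free_baseChange_of_quot [Module.Finite P F1] [Module.Projective P F0] [Module.Finite P F0]
    (d2 : F2 →ₗ[P] F1) (d1 : F1 →ₗ[P] F0) (h12 : d1 ∘ₗ d2 = 0)
    (B : Type u) [CommRing B] [Algebra P B] [IsLocalRing B] (J : Ideal B)
    (hJ : J ≤ IsLocalRing.maximalIdeal B) (hC : Function.Exact (d2.lTensor (B ⧸ J)) (d1.lTensor (B ⧸ J)))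
    [Module.Free (B ⧸ J) ((B ⧸ J) ⊗[P] (F0 ⧸ LinearMap.range d1))] :
    Module.Free B (B ⊗[P] (F0 ⧸ LinearMap.range d1)) := by
  obtain ⟨eB⟩ := nonempty_cok_baseChange d1 B
  haveI := free_quot_smul J (F0 ⧸ LinearMap.range d1) _ eB
  have hfree : Module.Free B ((B ⊗[P] F0) ⧸ LinearMap.range (d1.baseChange B)) := by
    refine free_cok_of_mod J hJ (d2.baseChange B) (d1.baseChange B) ?_ ?_
    · rw [← LinearMap.baseChange_comp, h12, LinearMap.baseChange_zero]
    · intro x hx
      have e : ∀ {F F' : Type u} [AddCommGroup F] [Module P F] [AddCommGroup F'] [Module P F']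
          (l : F →ₗ[P] F') (z : B ⊗[P] F),
          LinearMap.rTensor F' (Ideal.Quotient.mkₐ P J).toLinearMap (l.baseChange B z) =
            l.lTensor (B ⧸ J) (LinearMap.rTensor F (Ideal.Quotient.mkₐ P J).toLinearMap z) := by
        intro F F' _ _ _ _ l z
        induction z using TensorProduct.induction_on with
        | zero => simp
        | add a b ha hb => simp only [map_add, ha, hb]
        | tmul b f => simp
      have h1 := (ker_rTensor_mk J F0 _).2 hx
      rw [e] at h1
      obtain ⟨y, hy⟩ := (hC _).1 h1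
      obtain ⟨w, rfl⟩ := LinearMap.rTensor_surjective F2 (g := (Ideal.Quotient.mkₐ P J).toLinearMap)
        (Ideal.Quotient.mkₐ_surjective P J) y
      rw [← e, ← sub_eq_zero, ← map_sub, ker_rTensor_mk] at hy
      rw [Submodule.mem_sup]
      exact ⟨_, LinearMap.mem_range_self _ w, _, neg_mem hy, by abel⟩
  exact Module.Free.of_equiv eB

variable [Module.Finite P F1] [Module.Projective P F0] [Module.Finite P F0]

/-- A prime is in the free locus of the cokernel, from the fibre ring. -/
theorem mem_freeLocus_of_fibre (d2 : F2 →ₗ[P] F1) (d1 : F1 →ₗ[P] F0) (h12 : d1 ∘ₗ d2 = 0)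
    (S : Type u) [CommRing S] [Algebra P S] (hex : Function.Exact (d2.baseChange S) (d1.baseChange S))
    [Module.Projective S ((S ⊗[P] F0) ⧸ LinearMap.range (d1.baseChange S))]
    (q : PrimeSpectrum P) (J : Ideal (Localization.AtPrime q.asIdeal))
    (hJ : J ≤ IsLocalRing.maximalIdeal _) [Algebra S (Localization.AtPrime q.asIdeal ⧸ J)]
    [IsScalarTower P S (Localization.AtPrime q.asIdeal ⧸ J)] :
    q ∈ Module.freeLocus P (F0 ⧸ LinearMap.range d1) := by
  obtain ⟨eS⟩ := nonempty_cok_baseChange d1 S
  haveI : Module.Projective S (S ⊗[P] (F0 ⧸ LinearMap.range d1)) := Module.Projective.of_equiv eS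
  have hC := exact_tower d2 d1 S hex (Localization.AtPrime q.asIdeal ⧸ J)
  haveI : Nontrivial (Localization.AtPrime q.asIdeal ⧸ J) := Ideal.Quotient.nontrivial_iff.mpr fun h =>
    (IsLocalRing.maximalIdeal.isMaximal _).ne_top (top_le_iff.1 (h ▸ hJ))
  haveI : IsLocalRing (Localization.AtPrime q.asIdeal ⧸ J) :=
    IsLocalRing.of_surjective' (Ideal.Quotient.mk J) Ideal.Quotient.mk_surjective
  haveI : Module.Projective (Localization.AtPrime q.asIdeal ⧸ J)
      ((Localization.AtPrime q.asIdeal ⧸ J) ⊗[P] (F0 ⧸ LinearMap.range d1)) :=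
    Module.Projective.of_equiv (AlgebraTensorModule.cancelBaseChange P S
      (Localization.AtPrime q.asIdeal ⧸ J) (Localization.AtPrime q.asIdeal ⧸ J) (F0 ⧸ LinearMap.range d1))
  haveI : Module.Free (Localization.AtPrime q.asIdeal ⧸ J)
      ((Localization.AtPrime q.asIdeal ⧸ J) ⊗[P] (F0 ⧸ LinearMap.range d1)) := Module.free_of_flat_of_isLocalRing
  haveI := free_baseChange_of_quot d2 d1 h12 (Localization.AtPrime q.asIdeal) J hJ hC
  exact (Module.mem_freeLocus_of_isLocalization q (Localization.AtPrime q.asIdeal) _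
    (TensorProduct.mk P (Localization.AtPrime q.asIdeal) (F0 ⧸ LinearMap.range d1) 1)).2 this

end Tensor

end Groth.Agent.RelPerfFib5
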