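import Groth.Prelude
import Groth.Agent.Lib.RelPerfFib5.Alg
import Groth.Agent.Lib.DBaseChange.TorAmp
import Groth.Agent.Lib.DBaseChange.ResPC
import Groth.Agent.S7100
import Mathlib.RingTheory.TensorProduct.MvPolynomial

/-!
Relative perfectness from the fibres over the base.
-/

set_option autoImplicit false
set_option linter.style.haveILetI false
set_option backward.isDefEq.respectTransparency false
set_option maxHeartbeats 400000

universe u

open CategoryTheory CategoryTheory.Limits TensorProduct

attribute [local instance] HasDerivedCategory.standard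

namespace Groth.Agent.RelPerfFib5

/-- Exactness of a termwise tensor product from its cohomology. -/
theorem exact_rTensor_of_tm {R : Type u} [CommRing R] (F : DRing.Cx R) (M : ModuleCat.{u} R) (i : ℤ)
    (h : Subsingleton (((DBaseChange.tm M).obj F).homology i)) :
    Function.Exact ((F.d (i - 1) i).hom.rTensor M) ((F.d i (i + 1)).hom.rTensor M) := by
  intro x
  constructor
  · intro hx
    exact (DMod.subsingleton_homology_iff ((DBaseChange.tm M).obj F)
      (i := i - 1) (k := i + 1) (by simp) (by simp)).1 h x hx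
  · rintro ⟨y, rfl⟩
    rw [← LinearMap.comp_apply, ← LinearMap.rTensor_comp,
      show (F.d i (i + 1)).hom ∘ₗ (F.d (i - 1) i).hom = 0 from
        congrArg ModuleCat.Hom.hom (F.d_comp_d (i - 1) i (i + 1)),
      LinearMap.rTensor_zero, LinearMap.zero_apply]

section Transfer

variable {R P : Type u} [CommRing R] [CommRing P] [Algebra R P] (κ : Type u) [CommRing κ] [Algebra R κ]
  {X2 X1 X0 : Type u} [AddCommGroup X2] [Module P X2] [Module R X2] [IsScalarTower R P X2]
  [AddCommGroup X1] [Module P X1] [Module R X1] [IsScalarTower R P X1]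
  [AddCommGroup X0] [Module P X0] [Module R X0] [IsScalarTower R P X0]

/-- Base change along `P → P ⊗ κ` is tensoring over the base with `κ`. -/
noncomputable def fibreEquiv (X : Type u) [AddCommGroup X] [Module P X] [Module R X] [IsScalarTower R P X] :
    (P ⊗[R] κ) ⊗[P] X ≃ₗ[R] X ⊗[R] κ :=
  ((TensorProduct.comm P (P ⊗[R] κ) X).trans
    (AlgebraTensorModule.cancelBaseChange R P P X κ)).restrictScalars R

theorem fibreEquiv_baseChange (f : X1 →ₗ[P] X0) (z : (P ⊗[R] κ) ⊗[P] X1) :
    fibreEquiv κ X0 (f.baseChange (P ⊗[R] κ) z) = (f.restrictScalars R).rTensor κ (fibreEquiv κ X1 z) := by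
  induction z using TensorProduct.induction_on with
  | zero => simp only [map_zero]
  | add a b ha hb => simp only [map_add, ha, hb]
  | tmul s x =>
    induction s using TensorProduct.induction_on with
    | zero => simp only [zero_tmul, map_zero]
    | add a b ha hb => simp only [add_tmul, map_add, ha, hb]
    | tmul a c => simp [fibreEquiv]

theorem exact_baseChange_fibre (f : X2 →ₗ[P] X1) (g : X1 →ₗ[P] X0)
    (h : Function.Exact ((f.restrictScalars R).rTensor κ) ((g.restrictScalars R).rTensor κ)) :
    Function.Exact (f.baseChange (P ⊗[R] κ)) (g.baseChange (P ⊗[R] κ)) := by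
  intro z
  rw [← map_eq_zero_iff _ (fibreEquiv κ X0).injective, fibreEquiv_baseChange, h _]
  constructor
  · rintro ⟨w, hw⟩
    obtain ⟨w, rfl⟩ := (fibreEquiv (R := R) (P := P) κ X2).surjective w
    rw [← fibreEquiv_baseChange] at hw
    exact ⟨w, (fibreEquiv κ X1).injective hw⟩
  · rintro ⟨w, rfl⟩
    exact ⟨fibreEquiv (R := R) κ X2 w, (fibreEquiv_baseChange κ f w).symm⟩

end Transfer

/-- The fibre ring of a polynomial algebra is regular. -/
theorem isRegularRing_fibre (R : Type u) [CommRing R] (n : ℕ) (κ : Type u) [Field κ] [Algebra R κ] :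
    IsRegularRing (MvPolynomial (Fin n) R ⊗[R] κ) :=
  IsRegularRing.of_ringEquiv
    (((Algebra.TensorProduct.comm R (MvPolynomial (Fin n) R) κ).toRingEquiv.trans
      (MvPolynomial.algebraTensorAlgEquiv R κ).toRingEquiv).symm)

section Locus

variable {P : Type u} [CommRing P] (X : ℤ → Type u) [∀ i, AddCommGroup (X i)] [∀ i, Module P (X i)]
  [∀ i, Module.Finite P (X i)] [∀ i, Module.Projective P (X i)] (d : ∀ i j, X i →ₗ[P] X j)

theorem finitePresentation_cok (n : ℤ) : Module.FinitePresentation P (Cok X d n) :=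
  haveI := Module.finitePresentation_of_projective P (X n)
  Module.finitePresentation_of_surjective _ (Submodule.mkQ_surjective _)
    (by rw [Submodule.ker_mkQ, LinearMap.range_eq_map]; exact Module.Finite.fg_top.map _)

/-- The free loci of the cokernels grow downwards. -/
theorem freeLocus_cok_mono (a : ℤ) (hex : ∀ i, i < a → Function.Exact (d (i - 1) i) (d i (i + 1)))
    {m n : ℤ} (hm : m ≤ a) (hn : n ≤ m) :
    Module.freeLocus P (Cok X d m) ⊆ Module.freeLocus P (Cok X d n) := by
  intro q hq
  let B := Localization.AtPrime q.asIdeal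
  haveI : Module.Free B (B ⊗[P] Cok X d m) :=
    (Module.mem_freeLocus_of_isLocalization q B _ (TensorProduct.mk P B (Cok X d m) 1)).1 hq
  haveI : Module.Flat P B := IsLocalization.flat B q.asIdeal.primeCompl
  obtain ⟨em⟩ := nonempty_cok_baseChange (d (m - 1) m) B
  obtain ⟨en⟩ := nonempty_cok_baseChange (d (n - 1) n) B
  haveI : Module.Projective B (Cok (fun i => B ⊗[P] X i) (fun i j => (d i j).baseChange B) m) :=
    Module.Projective.of_equiv em.symm
  have hp : HasProjectiveDimensionLE
      (ModuleCat.of B (Cok (fun i => B ⊗[P] X i) (fun i j => (d i j).baseChange B) m)) 0 :=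
    (projective_iff_hasProjectiveDimensionLE_zero _).1 ((IsProjective.iff_projective _).1 inferInstance)
  have hex' : ∀ i, i < a → Function.Exact ((d (i - 1) i).baseChange B) ((d i (i + 1)).baseChange B) :=
    fun i hi => Module.Flat.lTensor_exact B (hex i hi)
  haveI := projective_cok_of_pd (fun i => B ⊗[P] X i) (fun i j => (d i j).baseChange B) a hex' 0 m hm hp n
    (by simpa using hn)
  haveI : Module.Projective B (B ⊗[P] Cok X d n) := Module.Projective.of_equiv en
  haveI : Module.Free B (B ⊗[P] Cok X d n) := Module.free_of_flat_of_isLocalRing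
  exact (Module.mem_freeLocus_of_isLocalization q B _ (TensorProduct.mk P B (Cok X d n) 1)).2 this

/-- A uniform degree below which the cokernels are projective. -/
theorem exists_projective_cok_of_local (a : ℤ)
    (hex : ∀ i, i < a → Function.Exact (d (i - 1) i) (d i (i + 1)))
    (hloc : ∀ q : PrimeSpectrum P, ∃ N, ∀ n ≤ N, q ∈ Module.freeLocus P (Cok X d n)) :
    ∃ N ≤ a, Module.Projective P (Cok X d N) := by
  haveI := fun n => finitePresentation_cok X d n
  let U : ℕ → Set (PrimeSpectrum P) := fun k => Module.freeLocus P (Cok X d (a - k))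
  obtain ⟨k, hk⟩ := isCompact_univ.elim_directed_cover U (fun k => Module.isOpen_freeLocus)
    (fun q _ => by
      obtain ⟨N, hN⟩ := hloc q
      exact Set.mem_iUnion.2 ⟨(a - N).toNat, hN _ (by omega)⟩)
    (fun k l => ⟨max k l, freeLocus_cok_mono X d a hex (by omega) (by omega),
      freeLocus_cok_mono X d a hex (by omega) (by omega)⟩)
  exact ⟨a - k, by omega, Module.freeLocus_eq_univ_iff.1 (top_le_iff.1 hk)⟩

end Locus

section Point

variable {R P : Type u} [CommRing R] [CommRing P] [Algebra R P]
  {X2 X1 X0 : Type u} [AddCommGroup X2] [Module P X2]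
  [AddCommGroup X1] [Module P X1] [AddCommGroup X0] [Module P X0]
  [Module.Finite P X1] [Module.Projective P X0] [Module.Finite P X0]

/-- A prime is in the free locus, from its fibre over the base. -/
theorem mem_freeLocus_of_residue (d2 : X2 →ₗ[P] X1) (d1 : X1 →ₗ[P] X0) (h12 : d1 ∘ₗ d2 = 0)
    (q : PrimeSpectrum P) (p : Ideal R) [p.IsPrime] (hp : p = q.asIdeal.comap (algebraMap R P))
    (hex : Function.Exact (d2.baseChange (P ⊗[R] p.ResidueField)) (d1.baseChange (P ⊗[R] p.ResidueField)))
    [Module.Projective (P ⊗[R] p.ResidueField)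
      (((P ⊗[R] p.ResidueField) ⊗[P] X0) ⧸ LinearMap.range (d1.baseChange (P ⊗[R] p.ResidueField)))] :
    q ∈ Module.freeLocus P (X0 ⧸ LinearMap.range d1) := by
  let φ := Localization.localRingHom p q.asIdeal (algebraMap R P) hp
  let J : Ideal (Localization.AtPrime q.asIdeal) := (IsLocalRing.maximalIdeal (Localization.AtPrime p)).map φ
  have hJ : J ≤ IsLocalRing.maximalIdeal _ := ((IsLocalRing.local_hom_TFAE φ).out 0 2 rfl rfl).1 (Localization.isLocalHom_localRingHom _ _ _ hp)
  let ψ : p.ResidueField →+* Localization.AtPrime q.asIdeal ⧸ J :=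
    Ideal.Quotient.lift _ ((Ideal.Quotient.mk J).comp φ) fun x hx =>
      Ideal.Quotient.eq_zero_iff_mem.2 (Ideal.mem_map_of_mem φ hx)
  let ψ' : p.ResidueField →ₐ[R] Localization.AtPrime q.asIdeal ⧸ J :=
    { ψ with
      commutes' := fun r => by
        show Ideal.Quotient.mk J (φ (algebraMap R _ r)) = _
        rw [Localization.localRingHom_to_map, ← IsScalarTower.algebraMap_apply]
        rfl }
  let χ := Algebra.TensorProduct.lift
    (IsScalarTower.toAlgHom R P (Localization.AtPrime q.asIdeal ⧸ J)) ψ' fun _ _ => Commute.all _ _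
  letI : Algebra (P ⊗[R] p.ResidueField) (Localization.AtPrime q.asIdeal ⧸ J) := χ.toRingHom.toAlgebra
  haveI : IsScalarTower P (P ⊗[R] p.ResidueField) (Localization.AtPrime q.asIdeal ⧸ J) :=
    IsScalarTower.of_algebraMap_eq fun x => by
      show _ = χ (x ⊗ₜ[R] 1)
      simp [χ]
  exact mem_freeLocus_of_fibre d2 d1 h12 (P ⊗[R] p.ResidueField) hex q J hJ

end Point

section Final

variable {R : Type u} [CommRing R] {n : ℕ}

/-- The algebraic core: a complex of finite free modules over a polynomial ring. -/
theorem finiteTor_of_fibres (E : DRing.Cx (MvPolynomial (Fin n) R)) (b : ℤ) [E.IsStrictlyLE b]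
    (hE : DRing.TermwiseFiniteFree E) (a : ℤ) (hge : ∀ i, i < a → Subsingleton (E.homology i))
    (hfib : ∀ p : PrimeSpectrum R, ∃ c, ∀ i, i < c → Subsingleton
      (((DBaseChange.tm (ModuleCat.of R p.asIdeal.ResidueField)).obj
        ((DRing.restrictCx (algebraMap R (MvPolynomial (Fin n) R))).obj E)).homology i)) :
    DRing.HasFiniteTorDimCx R
      (DRing.toD ((DRing.restrictCx (algebraMap R (MvPolynomial (Fin n) R))).obj E)) := by
  haveI := fun i => (hE i).1
  haveI := fun i => (hE i).2
  letI : ∀ i, Module R (E.X i) := fun i => Module.compHom _ (algebraMap R (MvPolynomial (Fin n) R))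
  haveI : ∀ i, IsScalarTower R (MvPolynomial (Fin n) R) (E.X i) := fun i => ⟨fun r x y => by
    show (r • x) • y = algebraMap R (MvPolynomial (Fin n) R) r • (x • y)
    rw [Algebra.smul_def, mul_smul]⟩
  let X := fun i => (E.X i : Type u)
  let d : ∀ i j, X i →ₗ[MvPolynomial (Fin n) R] X j := fun i j => (E.d i j).hom
  have hd : ∀ i j k, d j k ∘ₗ d i j = 0 := fun i j k => congrArg ModuleCat.Hom.hom (E.d_comp_d i j k)
  have hex : ∀ i, i < a → Function.Exact (d (i - 1) i) (d i (i + 1)) := fun i hi x =>
    ⟨(DMod.subsingleton_homology_iff E (i := i - 1) (k := i + 1) (by simp) (by simp)).1 (hge i hi) x,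
      fun ⟨y, hy⟩ => hy ▸ LinearMap.congr_fun (hd _ _ _) y⟩
  have hloc : ∀ q : PrimeSpectrum (MvPolynomial (Fin n) R), ∃ N, ∀ m ≤ N,
      q ∈ Module.freeLocus (MvPolynomial (Fin n) R) (Cok X d m) := by
    intro q
    let p := PrimeSpectrum.comap (algebraMap R (MvPolynomial (Fin n) R)) q
    obtain ⟨c, hc⟩ := hfib p
    let S := MvPolynomial (Fin n) R ⊗[R] p.asIdeal.ResidueField
    haveI : IsRegularRing S := isRegularRing_fibre R n _
    have hexS : ∀ i, i < c → Function.Exact ((d (i - 1) i).baseChange S) ((d i (i + 1)).baseChange S) :=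
      fun i hi => exact_baseChange_fibre _ _ _ (exact_rTensor_of_tm _ _ i (hc i hi))
    obtain ⟨N, hN, hproj⟩ := exists_projective_cok (fun i => S ⊗[MvPolynomial (Fin n) R] X i)
      (fun i j => (d i j).baseChange S) c hexS
    refine ⟨N, fun m hm => ?_⟩
    haveI := hproj m hm
    have h1 := hexS (m - 1) (by omega)
    rw [sub_add_cancel] at h1
    exact mem_freeLocus_of_residue (d (m - 1 - 1) (m - 1)) (d (m - 1) m) (hd _ _ _) q p.asIdeal rfl h1
  obtain ⟨N, hN, hproj⟩ := exists_projective_cok_of_local X d a hex hloc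
  let F := (DRing.restrictCx (algebraMap R (MvPolynomial (Fin n) R))).obj E
  have hflat : ∀ i, Module.Flat R (X i) := fun i => Module.Flat.trans R (MvPolynomial (Fin n) R) _
  haveI : F.IsStrictlyLE b := (CochainComplex.isStrictlyLE_iff F b).2 fun i hi =>
    Functor.map_isZero (ModuleCat.restrictScalars.{u} (algebraMap R (MvPolynomial (Fin n) R))) (CochainComplex.isZero_of_isStrictlyLE E b i hi)
  haveI : (DRing.toD F).IsGE N := (DMod.isGE_iff _ N).2 fun i hi => by
    rw [DMod.subsingleton_HD_toD_iff]
    exact (DMod.subsingleton_homology_iff F (i := i - 1) (k := i + 1) (by simp) (by simp)).2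
      fun x hx => ((hex i (by omega)) x).1 hx
  obtain ⟨e⟩ := DMod.exists_truncFrom_iso F N
  refine ⟨N, b, DMod.truncFrom F N, DMod.vanishesOutside_truncFrom F N b, ?_, ⟨e⟩⟩
  refine DMod.truncFrom_mem DMod.modClass_flat F N (fun i _ => hflat i) ?_
  letI : Module R (Cok X d N) := Module.compHom _ (algebraMap R (MvPolynomial (Fin n) R))
  haveI : IsScalarTower R (MvPolynomial (Fin n) R) (Cok X d N) := ⟨fun r x y => by
    show (r • x) • y = algebraMap R (MvPolynomial (Fin n) R) r • (x • y)
    rw [Algebra.smul_def, mul_smul]⟩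
  haveI : Module.Flat R (Cok X d N) := Module.Flat.trans R (MvPolynomial (Fin n) R) _
  let π : F.X N →ₗ[R] Cok X d N :=
    { toFun := fun x => Submodule.Quotient.mk (p := LinearMap.range (d (N - 1) N)) (x : X N)
      map_add' := fun _ _ => rfl
      map_smul' := fun _ _ => rfl }
  have hπk : LinearMap.ker π = LinearMap.range (F.d (N - 1) N).hom := by
    ext x
    exact Submodule.Quotient.mk_eq_zero _
  have hπs : Function.Surjective π := fun y => by
    obtain ⟨x, hx⟩ := Submodule.Quotient.mk_surjective (LinearMap.range (d (N - 1) N)) y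
    exact ⟨x, hx⟩
  exact Module.Flat.of_linearEquiv (((DMod.truncFromBotEquiv F N).symm.trans
    (Submodule.quotEquivOfEq _ _ hπk.symm)).trans (π.quotKerEquivOfSurjective hπs))

end Final

end Groth.Agent.RelPerfFib5
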